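import Cfsg.Agent.H358.LD.NetS2
import Cfsg.Agent.H358.LD.HeData
import Cfsg.Agent.Lib.PermNetOrbit
import Cfsg.Agent.SporRec.CosetBulk
import Cfsg.Agent.SporadicB.HePerm.Rep
import Cfsg.Agent.KFacts.He.Cent

/-!
# The permutation representation of degree 16660 of the Held group (helper358)

A double cover of the action of degree 8330 (`H687.He8330`, adapted).

* `phi` : the representation; `HH` : the stabilizer of `0`, with orbits `1, 1, 105, 105, 1344, 1344, 1440, 1680, 1680, 8960`;
* `exists_chars` : the permutation character is the sum of irreducible characters of degrees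
  `1920, 4352, 1275, 680, 1, 51, 51, 6272, 1029, 1029`.
-/

set_option autoImplicit false

namespace Cfsg.Agent.H358.LD.HeB

open Cfsg.Spor Cfsg.Spor.He Cfsg.Agent.Lib.PermNet Cfsg.Agent.Lib.PermNetOrbit Cfsg.Agent.H358.LD.HeData
open Cfsg.Agent.H687
open Cfsg.Agent.SporRec.CosetBulk (rangeCheck lt_iff_of_rangeCheck)
open Cfsg.Agent.SporadicB.HePerm (wd)

/-- the network of a generator -/
noncomputable def net : Gen → Net
  | .a => net_a | .b => net_b | .c => net_c | .d => net_d | .e => net_e | .f => net_f | .g => net_g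

theorem ok (x : Gen) : (net x).ok (2 ^ 15) = true := by cases x <;> decide +kernel

/-- the permutation of a generator -/
noncomputable def pm (x : Gen) : Equiv.Perm ℕ := (net x).perm

theorem wok (w : List Gen) : WOk (2 ^ 15) (w.map net) := by
  intro L hL
  obtain ⟨x, -, rfl⟩ := List.mem_map.1 hL
  exact ok x

theorem wperm_map (w : List Gen) : wperm (w.map net) = (w.map pm).prod := by
  rw [wperm, List.map_map]; rfl

theorem chk_pair (x y : Gen) : checkEq 15 (wpow ([x, y].map net) (coxLabel edges x y)) [] = true := by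
  cases x <;> cases y <;> decide +kernel

theorem pair (x y : Gen) : (pm x * pm y) ^ coxLabel edges x y = 1 := by
  have h := wperm_eq_one_of_checkEq (Cfsg.Agent.Lib.PermNetOrbit.WOk.wpow (wok [x, y]) _) (chk_pair x y)
  rw [wperm_wpow, wperm_map] at h
  simpa using h

/-- the words of the further relators -/
def ew : ℕ → List Gen × List Gen
  | 0 => ([.e], [.f, .g, .f, .g])
  | 1 => ([.e], [.a, .b, .c, .a, .b, .c, .a, .b, .c])
  | 2 => ([.a], [.c, .d, .c, .d, .c, .d, .c, .d, .c, .d])
  | _ => ([], [.c, .d, .f, .g, .c, .d, .f, .g, .c, .d, .f, .g, .c, .d, .f, .g])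

theorem chk_extra (i : ℕ) (hi : i < 4) : checkEq 15 ((ew i).1.map net) ((ew i).2.map net) = true := by
  interval_cases i <;> decide +kernel

theorem extra_eq (i : ℕ) (hi : i < 4) : ((ew i).1.map pm).prod = ((ew i).2.map pm).prod := by
  have h := wperm_eq_of_checkEq (wok _) (wok _) (chk_extra i hi)
  rwa [wperm_map, wperm_map] at h

theorem lift_eq_one : ∀ r ∈ coxRelators edges ∪ {r | r ∈ extra}, FreeGroup.lift pm r = 1 := by
  refine cox_lift_eq_one pm edges extra (fun x _ y _ => pair x y) ?_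
  intro r hr
  simp only [extra, List.mem_cons, List.not_mem_nil, or_false] at hr
  have h0 := extra_eq 0 (by norm_num)
  have h1 := extra_eq 1 (by norm_num)
  have h2 := extra_eq 2 (by norm_num)
  have h3 := extra_eq 3 (by norm_num)
  simp only [ew, List.map_cons, List.map_nil, List.prod_cons, List.prod_nil, mul_one] at h0 h1 h2 h3
  rcases hr with rfl | rfl | rfl | rfl
  · simp only [map_mul, map_inv, map_pow, FreeGroup.lift_apply_of]
    rw [h0, mul_inv_eq_one]
    simp only [pow_succ, pow_zero, one_mul, mul_assoc]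
  · simp only [map_mul, map_inv, map_pow, FreeGroup.lift_apply_of]
    rw [h1, mul_inv_eq_one]
    simp only [pow_succ, pow_zero, one_mul, mul_assoc]
  · simp only [map_mul, map_inv, map_pow, FreeGroup.lift_apply_of]
    rw [h2, mul_inv_eq_one]
    simp only [pow_succ, pow_zero, one_mul, mul_assoc]
  · simp only [map_mul, FreeGroup.lift_apply_of, pow_succ, pow_zero, one_mul, mul_assoc]
    exact h3.symm

/-- **the representation** -/
noncomputable def phi : Cfsg.Spor.He →* Equiv.Perm ℕ := PresentedGroup.toGroup lift_eq_one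

theorem phi_of (x : Gen) : phi (PresentedGroup.of x) = pm x := PresentedGroup.toGroup.of lift_eq_one

theorem phi_wd (w : List Gen) : phi (wd w) = wperm (w.map net) := by
  rw [wperm_map, wd, map_list_prod, List.map_map]
  rfl

theorem chk_range (x : Gen) : rangeCheck (net x) 16660 = true := by cases x <;> decide +kernel

theorem pm_lt_iff (x : Gen) (i : ℕ) : pm x i < 16660 ↔ i < 16660 := lt_iff_of_rangeCheck (ok x) (chk_range x) i

theorem of_mem_closure (g : Cfsg.Spor.He) :
    g ∈ Subgroup.closure (Set.range (PresentedGroup.of (rels := coxRelators edges ∪ {r | r ∈ extra}))) := by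
  rw [PresentedGroup.closure_range_of]
  exact Subgroup.mem_top g

theorem phi_lt_iff (g : Cfsg.Spor.He) (i : ℕ) : phi g i < 16660 ↔ i < 16660 := by
  have h := of_mem_closure g
  revert i
  induction h using Subgroup.closure_induction with
  | mem x hx =>
    intro i
    obtain ⟨x, rfl⟩ := hx
    rw [phi_of]
    exact pm_lt_iff x i
  | one => intro i; rw [map_one]; rfl
  | mul x y _ _ hx hy =>
    intro i
    rw [map_mul, Equiv.Perm.mul_apply]
    exact (hx _).trans (hy _)
  | inv x _ hx =>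
    intro i
    rw [map_inv]
    have h1 := hx ((phi x)⁻¹ i)
    have h2 : phi x ((phi x)⁻¹ i) = i := by simp
    rw [h2] at h1
    exact h1.symm

/-! ### Transitivity -/

/-- the words of the generators -/
def wordsG : List (List Gen) := [[.a], [.b], [.c], [.d], [.e], [.f], [.g]]

/-- the words generating the stabilizer of `0` -/
def wordsK : List (List Gen) := [[.a], [.c], [.d], [.e], [.f], [.g],
  [.b, .c, .d, .e, .f, .d, .c, .b, .d, .c, .d, .c, .e, .d, .b, .c, .d, .f, .e, .d, .c, .b]]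

/-- words of elements fixing `0` and `222` -/
def wordsM : List (List Gen) := [[.d, .f, .d, .c, .d, .c, .e, .d, .f, .d],
  [.d, .g, .d, .b, .c, .d, .e, .f, .d, .c, .b, .d, .c, .d, .c, .e, .d, .b, .c, .d, .f, .e, .d, .c, .b, .c, .d, .g, .d]]

/-- words of networks -/
noncomputable def nt (ws : List (List Gen)) : List (List Net) := ws.map fun w => w.map net

theorem nt_ok (ws : List (List Gen)) : WsOk (2 ^ 15) (nt ws) := by
  intro w hw
  obtain ⟨v, -, rfl⟩ := List.mem_map.1 hw
  exact wok v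

theorem satG : Nat.beq (sat (nt wordsG) 6 (2 ^ 0)) (2 ^ 16660 - 1) = true := by decide +kernel

theorem trans (i : ℕ) (hi : i < 16660) : ∃ g, phi g 0 = i := by
  have h1 : (sat (nt wordsG) 6 (2 ^ 0)).testBit i = true := by
    rw [Nat.eq_of_beq_eq_true satG, Nat.testBit_two_pow_sub_one]
    simpa using hi
  obtain ⟨_, ⟨g, rfl⟩, hg⟩ := sat_point_spec (K := phi.range) (nt_ok wordsG) (fun w hw => by
    obtain ⟨v, -, rfl⟩ := List.mem_map.1 hw
    exact ⟨wd v, phi_wd v⟩) 6 h1
  exact ⟨g, hg⟩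

/-! ### The stabilizer -/

/-- **the stabilizer of `0`** -/
def HH : Subgroup Cfsg.Spor.He := Subgroup.closure {g | ∃ w ∈ wordsK, wd w = g}

theorem wd_mem {w : List Gen} (hw : w ∈ wordsK) : wd w ∈ HH := Subgroup.subset_closure ⟨w, hw, rfl⟩

theorem wd_append (v w : List Gen) : wd (v ++ w) = wd v * wd w := by
  simp [wd]

theorem fixK : fixB (nt wordsK) 0 = true := by decide +kernel

theorem HH_fix {g : Cfsg.Spor.He} (hg : g ∈ HH) : phi g 0 = 0 := by
  induction hg using Subgroup.closure_induction with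
  | mem x hx =>
    obtain ⟨w, hw, rfl⟩ := hx
    rw [phi_wd]
    exact fixB_spec (nt_ok wordsK) fixK _ (List.mem_map.2 ⟨w, hw, rfl⟩)
  | one => rw [map_one]; rfl
  | mul x y _ _ hx hy => rw [map_mul, Equiv.Perm.mul_apply, hy, hx]
  | inv x _ hx => rw [map_inv, Equiv.Perm.inv_eq_iff_eq, hx]

/-- a letter of the stabilizer -/
def lt6 : Gen → Bool
  | .b => false
  | _ => true

theorem letter_mem {x : Gen} (h : lt6 x = true) : wd [x] ∈ HH := by
  apply wd_mem
  revert h
  cases x <;> decide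

theorem letters_mem {w : List Gen} (h : w.all lt6 = true) : wd w ∈ HH := by
  induction w with
  | nil => exact HH.one_mem
  | cons x w ih =>
    rw [List.all_cons, Bool.and_eq_true] at h
    have := wd_append [x] w
    rw [List.singleton_append] at this
    rw [this]
    exact HH.mul_mem (letter_mem h.1) (ih h.2)

theorem wordsM_mem {w : List Gen} (hw : w ∈ wordsM) : wd w ∈ HH := by
  simp only [wordsM, List.mem_cons, List.not_mem_nil, or_false] at hw
  rcases hw with rfl | rfl
  · exact letters_mem (by decide)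
  · rw [show ([.d, .g, .d, .b, .c, .d, .e, .f, .d, .c, .b, .d, .c, .d, .c, .e, .d, .b, .c, .d, .f, .e, .d, .c, .b, .c, .d, .g, .d] : List Gen) = [.d, .g, .d] ++ ([.b, .c, .d, .e, .f, .d, .c, .b, .d, .c, .d, .c, .e, .d, .b, .c, .d, .f, .e, .d, .c, .b] ++ [.c, .d, .g, .d]) from rfl, wd_append, wd_append]
    exact HH.mul_mem (letters_mem (by decide)) (HH.mul_mem (wd_mem (by decide)) (letters_mem (by decide)))

instance instFiniteHe : Finite Cfsg.Spor.He := Nat.finite_of_card_ne_zero (by rw [KFacts.He.Cent.card_He]; norm_num)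

/-- the representation of the stabilizer -/
noncomputable def phiH : HH →* Equiv.Perm ℕ := phi.comp HH.subtype

theorem step1 : 8960 * Nat.card (stabL phiH [222]) ≤ Nat.card (stabL phiH []) :=
  stabL_step_of_check phiH (k := 15) (ws := nt wordsK) [] 222 8960 3 (nt_ok _) (fun w hw => by
    obtain ⟨v, hv, rfl⟩ := List.mem_map.1 hw
    exact ⟨⟨wd v, wd_mem hv⟩, phi_wd v⟩) (by decide +kernel) (by decide +kernel) (by decide +kernel)

theorem step2 : 27 * Nat.card (stabL phiH [4, 222]) ≤ Nat.card (stabL phiH [222]) :=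
  stabL_step_of_check phiH (k := 15) (ws := nt wordsM) [222] 4 27 4 (nt_ok _) (fun w hw => by
    obtain ⟨v, hv, rfl⟩ := List.mem_map.1 hw
    exact ⟨⟨wd v, wordsM_mem hv⟩, phi_wd v⟩) (by decide +kernel) (by decide +kernel) (by decide +kernel)

theorem card_HH : 241920 ≤ Nat.card HH := by
  have h1 := step1
  have h2 := step2
  have h3 : 0 < Nat.card (stabL phiH [4, 222]) := Nat.card_pos
  have h4 : Nat.card (stabL phiH []) ≤ Nat.card HH := Nat.card_le_card_of_injective _ (Subgroup.subtype_injective _)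
  omega

theorem index_HH : HH.index = 16660 ∧ (∀ g, phi g 0 = 0 ↔ g ∈ HH) ∧ ∀ g, phi g 0 < 16660 := by
  refine index_eq_of_action HH phi 16660 (fun g hg => HH_fix hg) trans ?_ Subgroup.index_ne_zero_of_finite
  have h1 := HH.card_mul_index
  rw [KFacts.He.Cent.card_He] at h1
  by_contra hcon
  have h2 := Nat.mul_le_mul card_HH (show 16661 ≤ HH.index by omega)
  omega

/-! ### The suborbits -/

/-- masks of the suborbits -/
noncomputable def U : ℕ → ℕ
  | 0 => u0 | 1 => u1 | 2 => u2 | 3 => u3 | 4 => u4 | 5 => u5 | 6 => u6 | 7 => u7 | 8 => u8 | _ => u9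

/-- representatives -/
def yy : ℕ → ℕ
  | 0 => 0 | 1 => 1 | 2 => 234 | 3 => 235 | 4 => 16 | 5 => 17 | 6 => 2 | 7 => 246 | 8 => 256 | _ => 222

/-- words moving the representatives to `0` -/
def vw : ℕ → List Gen
  | 0 => []
  | 1 => [.b, .a, .b]
  | 2 => [.b, .c, .d, .e, .f, .d, .c, .b]
  | 3 => [.b, .a, .c, .d, .e, .f, .d, .c, .b]
  | 4 => [.b, .c, .d, .c, .b]
  | 5 => [.b, .a, .c, .d, .c, .b]
  | 6 => [.b]
  | 7 => [.b, .c, .d, .f, .g, .d, .c, .b]
  | 8 => [.b, .c, .d, .g, .f, .d, .c, .b]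
  | _ => [.b, .c, .d, .c, .f, .d, .c, .b]

/-- pairing -/
def prn : ℕ → ℕ
  | 7 => 8 | 8 => 7 | n => n

theorem satK (i : ℕ) (hi : i < 10) : Nat.beq (sat (nt wordsK) 4 (2 ^ yy i)) (U i) = true := by
  interval_cases i <;> decide +kernel

theorem closedK (i : ℕ) (hi : i < 10) : closedB (nt wordsK) (U i) = true := by
  interval_cases i <;> decide +kernel

theorem tbK (i : ℕ) (hi : i < 10) : tb (U i) (yy i) = true := by
  interval_cases i <;> decide +kernel

theorem orb (i : ℕ) (hi : i < 10) (p : ℕ) : (U i).testBit p = true ↔ ∃ h ∈ HH, phi h (yy i) = p := by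
  have h := orbit_closure_eq phi {g | ∃ w ∈ wordsK, wd w = g} (nt_ok wordsK) (by
    rintro g ⟨w, hw, rfl⟩
    exact ⟨w.map net, List.mem_map.2 ⟨w, hw, rfl⟩, (phi_wd w).symm⟩) (by
    intro w hw
    obtain ⟨v, hv, rfl⟩ := List.mem_map.1 hw
    exact ⟨wd v, ⟨v, hv, rfl⟩, (phi_wd v).symm⟩) (satK i hi) (closedK i hi) (tbK i hi)
  have h1 := Set.ext_iff.1 h p
  exact h1.symm

theorem shiftU (i : ℕ) (hi : i < 10) : Nat.beq (Nat.shiftRight (U i) 16660) 0 = true := by
  interval_cases i <;> decide +kernel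

theorem ltU (i : ℕ) (hi : i < 10) (p : ℕ) (h : (U i).testBit p = true) : p < 16660 := by
  by_contra hcon
  have h1 : U i >>> 16660 = 0 := Nat.eq_of_beq_eq_true (shiftU i hi)
  have h2 := congrArg (fun x => Nat.testBit x (p - 16660)) h1
  simp only [Nat.testBit_shiftRight, Nat.zero_testBit] at h2
  rw [show 16660 + (p - 16660) = p by omega, h] at h2
  exact absurd h2 (by simp)

theorem orU : Nat.beq (Nat.lor (U 0) (Nat.lor (U 1) (Nat.lor (U 2) (Nat.lor (U 3) (Nat.lor (U 4)
    (Nat.lor (U 5) (Nat.lor (U 6) (Nat.lor (U 7) (Nat.lor (U 8) (U 9)))))))))) (2 ^ 16660 - 1) = true := by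
  decide +kernel

theorem coverU (p : ℕ) (hp : p < 16660) : ∃ i : Fin 10, (U i).testBit p = true := by
  have h1 := congrArg (fun x => Nat.testBit x p) (Nat.eq_of_beq_eq_true orU)
  have h2 : ∀ a b : ℕ, (Nat.lor a b).testBit p = (a.testBit p || b.testBit p) := fun a b => Nat.testBit_or a b p
  simp only [h2, Nat.testBit_two_pow_sub_one, hp, decide_true, Bool.or_eq_true] at h1
  rcases h1 with h | h | h | h | h | h | h | h | h | h
  exacts [⟨0, h⟩, ⟨1, h⟩, ⟨2, h⟩, ⟨3, h⟩, ⟨4, h⟩, ⟨5, h⟩, ⟨6, h⟩, ⟨7, h⟩, ⟨8, h⟩, ⟨9, h⟩]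

theorem chk_disj : ((List.range 10).all fun i => (List.range 10).all fun j => or (Nat.beq i j)
    (Nat.beq (Nat.land (U i) (U j)) 0)) = true := by decide +kernel

theorem disjU (i j : Fin 10) (p : ℕ) (hi : (U i).testBit p = true) (hj : (U j).testBit p = true) : i = j := by
  have h := chk_disj
  rw [List.all_eq_true] at h
  have h1 := h i (List.mem_range.2 i.2)
  rw [List.all_eq_true] at h1
  have h2 := h1 j (List.mem_range.2 j.2)
  rw [Bool.or_eq_true] at h2
  rcases h2 with h3 | h3
  · exact Fin.ext (Nat.eq_of_beq_eq_true h3)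
  · exfalso
    have h4 := congrArg (fun x => Nat.testBit x p) (Nat.eq_of_beq_eq_true h3)
    have h5 : (Nat.land (U i) (U j)).testBit p = ((U i).testBit p && (U j).testBit p) := Nat.testBit_and _ _ p
    simp only [h5, hi, hj, Nat.zero_testBit] at h4
    exact absurd h4 (by simp)

theorem masks : NetScheme.Masks phi HH 16660 (fun i : Fin 10 => U i) (fun i : Fin 10 => yy i) where
  pos := by norm_num
  bd g i hi := (phi_lt_iff g i).2 hi
  tr := trans
  lt i := ltU i i.2
  cover := coverU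
  disj := disjU
  orb i := orb i i.2
  stab := index_HH.2.1

/-! ### The intersection numbers -/

/-- intersection numbers -/
def pt (i j k : ℕ) : ℕ :=
  Nat.land (Nat.shiftRight pT (Nat.mul 14 (Nat.add (Nat.mul 100 k) (Nat.add (Nat.mul 10 j) i)))) 16383

theorem chk_v : ((List.range 10).all fun k => and (Nat.beq (ptWord ((vw k).map net) (yy k)) 0)
    (tb (U (prn k)) (ptWord ((vw k).map net) 0))) = true := by decide +kernel

theorem v_spec (k : ℕ) (hk : k < 10) : phi (wd (vw k)) (yy k) = 0 ∧ (U (prn k)).testBit (phi (wd (vw k)) 0) = true := by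
  have h := chk_v
  rw [List.all_eq_true] at h
  have h1 := h k (List.mem_range.2 hk)
  rw [Bool.and_eq_true, ptWord_eq (wok _), ptWord_eq (wok _), tb_eq] at h1
  rw [phi_wd]
  exact ⟨Nat.eq_of_beq_eq_true h1.1, h1.2⟩

theorem chk_cnt : ((List.range 10).all fun k => (List.range 10).all fun j =>
    seqB (appWord ((vw k).map net) (U (prn j))) fun A => (List.range 10).all fun i =>
      Nat.beq (Lib.PermNetOrbit.pc 15 (Nat.land (U i) A)) (pt i j k)) = true := by decide +kernel

theorem cnt (i j k : Fin 10) : Nat.card {z : Fin 16660 // (U i).testBit z = true ∧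
    (U (prn j)).testBit (phi (wd (vw k)) z) = true} = pt i j k := by
  have h := chk_cnt
  rw [List.all_eq_true] at h
  have h1 := h k (List.mem_range.2 k.2)
  rw [List.all_eq_true] at h1
  have h2 := h1 j (List.mem_range.2 j.2)
  rw [seqB_eq, List.all_eq_true] at h2
  have h3 := h2 i (List.mem_range.2 i.2)
  obtain ⟨A, hA⟩ : ∃ A, A = appWord ((vw k).map net) (U (prn j)) := ⟨_, rfl⟩
  rw [← hA] at h3
  have hAt : ∀ z, A.testBit z = (U (prn j)).testBit (phi (wd (vw k)) z) := fun z => by
    rw [hA, testBit_appWord (wok _), phi_wd]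
  have hand : ∀ z, (Nat.land (U i) A).testBit z = ((U i).testBit z && A.testBit z) := fun z => Nat.testBit_and _ _ z
  have hlt : ∀ z, (Nat.land (U i) A).testBit z = true → z < 16660 := fun z hz => by
    rw [hand, Bool.and_eq_true] at hz
    exact ltU i i.2 z hz.1
  have hsh : Nat.beq (Nat.shiftRight (Nat.land (U i) A) (Nat.pow 2 15)) 0 = true := by
    have : Nat.land (U i) A >>> 2 ^ 15 = 0 := by
      apply Nat.eq_of_testBit_eq
      intro z
      rw [Nat.testBit_shiftRight, Nat.zero_testBit]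
      by_contra hcon
      have := hlt _ (by simpa using hcon)
      omega
    rw [show Nat.shiftRight (Nat.land (U i) A) (Nat.pow 2 15) = 0 from this]
    rfl
  have h4 := NetScheme.card_fin hlt (ncard_testBit hsh h3)
  rw [← h4]
  refine Nat.card_congr (Equiv.subtypeEquivRight fun z => ?_)
  rw [hand, Bool.and_eq_true, hAt]

/-! ### The idempotents -/

/-- rational parts, times 199920 -/
def la : ℕ → List ℤ
  | 0 => [23040, 23040, -3072, -3072, 600, 600, 192, 192, 192, -216]
  | 1 => [52224, 52224, 0, 0, -816, -816, -1088, 0, 0, 408]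
  | 2 => [15300, 15300, 1020, 1020, 0, 0, 1020, -510, -510, 0]
  | 3 => [8160, 8160, 1632, 1632, 0, 0, 68, 408, 408, -204]
  | 4 => [12, 12, 12, 12, 12, 12, 12, 12, 12, 12]
  | 5 => [612, 612, 204, 204, 102, 102, -102, -51, -51, 0]
  | 6 => [612, 612, 204, 204, 102, 102, -102, -51, -51, 0]
  | 7 => [75264, -75264, 0, 0, -1176, 1176, 0, 0, 0, 0]
  | 8 => [12348, -12348, 0, 0, 588, -588, 0, 0, 0, 0]
  | _ => [12348, -12348, 0, 0, 588, -588, 0, 0, 0, 0]

/-- irrational parts, times 199920 -/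
def lb : ℕ → List ℤ
  | 0 => [0, 0, 0, 0, 0, 0, 0, 0, 0, 0]
  | 1 => [0, 0, 0, 0, 0, 0, 0, 0, 0, 0]
  | 2 => [0, 0, 0, 0, 0, 0, 0, 0, 0, 0]
  | 3 => [0, 0, 0, 0, 0, 0, 0, 0, 0, 0]
  | 4 => [0, 0, 0, 0, 0, 0, 0, 0, 0, 0]
  | 5 => [0, 0, 0, 0, 0, 0, 0, -51, 51, 0]
  | 6 => [0, 0, 0, 0, 0, 0, 0, 51, -51, 0]
  | 7 => [0, 0, 0, 0, 0, 0, 0, 0, 0, 0]
  | 8 => [0, 0, 588, -588, 0, 0, 0, 0, 0, 0]
  | _ => [0, 0, -588, 588, 0, 0, 0, 0, 0, 0]

/-- rational part -/
def ea (s i : Fin 10) : ℤ := (la s).getD i 0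
/-- irrational part -/
def eb (s i : Fin 10) : ℤ := (lb s).getD i 0

/-- which square root -/
def gb (s : Fin 10) : Bool := Nat.blt s 7

/-- the two discriminants -/
def dd : Bool → ℤ
  | true => -7
  | false => 17

/-- the degrees -/
def dg : Fin 10 → ℕ := ![1920, 4352, 1275, 680, 1, 51, 51, 6272, 1029, 1029]

theorem idem : ∀ s k : Fin 10, ∑ i : Fin 10, ∑ j : Fin 10, (ea s i * ea s j + dd (gb s) * (eb s i * eb s j)) *
    (pt i j k : ℤ) = 199920 * ea s k := by decide +kernel

theorem idem' : ∀ s k : Fin 10, ∑ i : Fin 10, ∑ j : Fin 10, (ea s i * eb s j + eb s i * ea s j) *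
    (pt i j k : ℤ) = 199920 * eb s k := by decide +kernel

theorem sumE : ∀ k : Fin 10, ∑ s : Fin 10, ea s k = if k = 0 then 199920 else 0 := by decide +kernel

theorem sumE' : ∀ (k : Fin 10) (b : Bool), ∑ s : Fin 10, (if gb s = b then eb s k else 0) = 0 := by decide +kernel

theorem degE : ∀ s : Fin 10, ((16660 : ℕ) : ℤ) * ea s 0 = 199920 * (dg s : ℤ) := by decide +kernel

theorem degE' : ∀ s : Fin 10, eb s 0 = 0 := by decide +kernel

/-- **The constituents of the permutation character of degree 16660.** -/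
theorem exists_chars : ∃ χ : Fin 10 → Cfsg.Spor.He → ℂ, (∀ s, Cfsg.IsIrrCharacter Cfsg.Spor.He (χ s)) ∧
    (∀ s t, s ≠ t → χ s ≠ χ t) ∧ (∀ s, χ s 1 = (dg s : ℂ)) ∧
      ∀ g, ∑ s, χ s g = (Nat.card {i : Fin 16660 // phi g i = i} : ℂ) := by
  have hsq : ∀ d : ℤ, ∃ w : ℂ, w * w = (d : ℂ) := by
    intro d
    obtain ⟨w, hw⟩ := IsAlgClosed.exists_pow_nat_eq (d : ℂ) (n := 2) (by norm_num)
    exact ⟨w, by rw [← hw]; ring⟩
  choose w hw using fun b => hsq (dd b)
  refine exists_chars2 masks (v := fun k => wd (vw k)) (fun k => (v_spec k k.2).1)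
    (pr := ![0, 1, 2, 3, 4, 5, 6, 8, 7, 9]) (fun k => ?_) (by decide) (p := fun i j k => pt i j k) (fun i j k => ?_) w hw
    gb ea eb (D := 199920) (by norm_num) idem idem' (k₀ := 0) ?_ sumE sumE' (deg := dg) degE degE' (by decide)
  · have h := (v_spec k k.2).2
    fin_cases k <;> exact h
  · rw [← cnt i j k]
    fin_cases j <;> rfl
  · exact (orb 0 (by norm_num) 0).2 ⟨1, HH.one_mem, by rw [map_one]; rfl⟩

end Cfsg.Agent.H358.LD.HeB
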