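import Cfsg.Agent.H687.NetScheme

/-!
# Irreducible constituents of a permutation character, two quadratic irrationalities (helper358)

A variant of `H687.NetScheme.exists_chars`: the coefficients of the idempotent `s` are
`(ea s i + eb s i * w (gb s)) / D`, with `w b ^ 2 = d b`, `b : Bool`.
-/

set_option autoImplicit false
set_option linter.unusedSectionVars false

namespace Cfsg.Agent.H358.LD

open Cfsg Cfsg.Agent.Characters.Core Cfsg.Agent.H687.Scheme Cfsg.Agent.H687.NetScheme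

universe u

variable {G : Type u} [Group G] {φ : G →* Equiv.Perm ℕ} {H : Subgroup G} {n r : ℕ} {U y : Fin r → ℕ}

/-- **The constituents of the permutation character.** -/
theorem exists_chars2 [Finite G] (M : Masks φ H n U y) {v : Fin r → G} (hv : ∀ k, φ (v k) (y k) = 0)
    {pr : Fin r → Fin r} (hpr : ∀ k, (U (pr k)).testBit (φ (v k) 0) = true) (hinj : Function.Injective pr)
    {p : Fin r → Fin r → Fin r → ℕ}
    (hcnt : ∀ i j k, Nat.card {z : Fin n // (U i).testBit z = true ∧ (U (pr j)).testBit (φ (v k) z) = true} = p i j k)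
    {d : Bool → ℤ} (w : Bool → ℂ) (hw : ∀ b, w b * w b = (d b : ℂ)) (gb : Fin r → Bool) (ea eb : Fin r → Fin r → ℤ)
    {D : ℤ} (hD : D ≠ 0)
    (he : ∀ s k, ∑ i, ∑ j, (ea s i * ea s j + d (gb s) * (eb s i * eb s j)) * (p i j k : ℤ) = D * ea s k)
    (he' : ∀ s k, ∑ i, ∑ j, (ea s i * eb s j + eb s i * ea s j) * (p i j k : ℤ) = D * eb s k) {k₀ : Fin r}
    (hk₀ : (U k₀).testBit 0 = true) (hsum : ∀ k, ∑ s, ea s k = if k = k₀ then D else 0)
    (hsum' : ∀ k b, ∑ s, (if gb s = b then eb s k else 0) = 0) {deg : Fin r → ℕ}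
    (hdeg : ∀ s, (n : ℤ) * ea s k₀ = D * (deg s : ℤ)) (hdeg' : ∀ s, eb s k₀ = 0) (hdeg0 : ∀ s, deg s ≠ 0) :
    ∃ χ : Fin r → G → ℂ, (∀ s, IsIrrCharacter G (χ s)) ∧ (∀ s t, s ≠ t → χ s ≠ χ t) ∧ (∀ s, χ s 1 = (deg s : ℂ)) ∧
      ∀ g, ∑ s, χ s g = (Nat.card {i : Fin n // φ g i = i} : ℂ) := by
  classical
  let _ : MulAction G (Fin n) := finAct φ n M.bd
  have hsm : ∀ (g : G) (i : Fin n), ((g • i : Fin n) : ℕ) = φ g i := fun _ _ => rfl
  have : NeZero n := ⟨M.pos.ne'⟩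
  have h0 : ((0 : Fin n) : ℕ) = 0 := rfl
  have hst0 : ∀ g : G, g • (0 : Fin n) = 0 ↔ g ∈ H := by
    intro g
    rw [← M.stab, Fin.ext_iff, hsm, h0]
  have htr : ∀ x : Fin n, ∃ g : G, g • (0 : Fin n) = x := by
    intro x
    obtain ⟨g, hg⟩ := M.tr x x.2
    exact ⟨g, Fin.ext (by rw [hsm, h0, hg])⟩
  have hmem : ∀ g : G, g ∈ H → ∀ i q, (U i).testBit q = true → (U i).testBit (φ g q) = true := by
    intro g hg i q hq
    obtain ⟨x, hx, hxq⟩ := (M.orb i q).1 hq
    exact (M.orb i _).2 ⟨g * x, H.mul_mem hg hx, by rw [map_mul, Equiv.Perm.mul_apply, hxq]⟩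
  have hst : ∀ g : G, g • (0 : Fin n) = 0 → ∀ z, ind M (g • z) = ind M z := by
    intro g hg z
    rw [ind_iff, hsm]
    exact hmem g ((hst0 g).1 hg) _ _ ((ind_iff M z _).1 rfl)
  have hrep : ∀ x : Fin n, ∃ g : G, g • (0 : Fin n) = 0 ∧ g • (⟨y (ind M x), M.y_lt _⟩ : Fin n) = x := by
    intro x
    obtain ⟨g, hg, hgx⟩ := (M.orb _ _).1 ((ind_iff M x _).1 rfl)
    exact ⟨g, (hst0 g).2 hg, Fin.ext (by rw [hsm]; exact hgx)⟩
  have hS : Sch G (mkLab htr (ind M)) (0 : Fin n) (fun k => (⟨y k, M.y_lt k⟩ : Fin n)) p := by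
    refine sch_of htr hst (w := fun k => (v k)⁻¹) hrep (fun k => ?_) (pr := pr) (fun k => ?_) hinj (fun i j k => ?_)
    · rw [inv_smul_eq_iff]
      exact Fin.ext (by rw [hsm, h0]; exact (hv k).symm)
    · rw [inv_inv, ind_iff, hsm, h0]
      exact hpr k
    · rw [← hcnt i j k]
      refine Nat.card_congr (Equiv.subtypeEquivRight fun z => ?_)
      rw [inv_inv, ind_iff, ind_iff, hsm]
  have hk : mkLab htr (ind M) 0 0 = k₀ := by
    rw [mkLab_eq htr hst (one_smul G (0 : Fin n)), inv_one, one_smul, ind_iff]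
    exact hk₀
  have hDC : (D : ℂ) ≠ 0 := by exact_mod_cast hD
  obtain ⟨c, hc⟩ : ∃ c : Fin r → Fin r → ℂ, c = fun s i => ((ea s i : ℂ) + (eb s i : ℂ) * w (gb s)) / D := ⟨_, rfl⟩
  have hcc : ∀ s i, c s i = ((ea s i : ℂ) + (eb s i : ℂ) * w (gb s)) / D := fun s i => by rw [hc]
  have h1 : ∀ s k, ∑ i, ∑ j, c s i * c s j * p i j k = c s k := by
    intro s k
    have e1 : ∑ i, ∑ j, (((ea s i : ℂ) * ea s j + d (gb s) * ((eb s i : ℂ) * eb s j)) * (p i j k : ℂ)) =
        D * ea s k := by exact_mod_cast congrArg (fun x : ℤ => (x : ℂ)) (he s k)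
    have e2 : ∑ i, ∑ j, (((ea s i : ℂ) * eb s j + (eb s i : ℂ) * ea s j) * (p i j k : ℂ)) =
        D * eb s k := by exact_mod_cast congrArg (fun x : ℤ => (x : ℂ)) (he' s k)
    have e3 : ∑ i, ∑ j, c s i * c s j * p i j k =
        (∑ i, ∑ j, (((ea s i : ℂ) * ea s j + d (gb s) * ((eb s i : ℂ) * eb s j)) * (p i j k : ℂ)) +
          w (gb s) * ∑ i, ∑ j, (((ea s i : ℂ) * eb s j + (eb s i : ℂ) * ea s j) * (p i j k : ℂ))) / (D * D) := by
      rw [Finset.mul_sum, ← Finset.sum_add_distrib, Finset.sum_div]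
      refine Finset.sum_congr rfl fun i _ => ?_
      rw [Finset.mul_sum, ← Finset.sum_add_distrib, Finset.sum_div]
      refine Finset.sum_congr rfl fun j _ => ?_
      rw [hcc, hcc]
      field_simp
      linear_combination ((eb s i : ℂ) * eb s j * p i j k) * hw (gb s)
    rw [e3, e1, e2, hcc]
    field_simp
  have h2 : ∀ k, ∑ s, c s k = if k = mkLab htr (ind M) 0 0 then 1 else 0 := by
    intro k
    have h3 : ∑ s, (eb s k : ℂ) * w (gb s) = 0 := by
      have h4 : ∀ s, (eb s k : ℂ) * w (gb s) = ∑ b : Bool, (if gb s = b then (eb s k : ℂ) else 0) * w b := by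
        intro s
        rw [Fintype.sum_bool]
        cases gb s <;> simp
      rw [Finset.sum_congr rfl fun s _ => h4 s, Finset.sum_comm]
      refine Finset.sum_eq_zero fun b _ => ?_
      rw [← Finset.sum_mul]
      have h5 := congrArg (fun x : ℤ => (x : ℂ)) (hsum' k b)
      simp only [Int.cast_sum, Int.cast_ite, Int.cast_zero] at h5
      rw [h5, zero_mul]
    have h4 : ∑ s, (ea s k : ℂ) = if k = k₀ then (D : ℂ) else 0 := by
      have h5 := congrArg (fun x : ℤ => (x : ℂ)) (hsum k)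
      simp only [Int.cast_sum, Int.cast_ite, Int.cast_zero] at h5
      exact h5
    rw [hk, Finset.sum_congr rfl fun s _ => hcc s k, ← Finset.sum_div, Finset.sum_add_distrib, h3, h4, add_zero]
    split_ifs
    · rw [div_self hDC]
    · rw [zero_div]
  have h3 : ∀ s, (n : ℂ) * c s k₀ = deg s := by
    intro s
    have h4 : (n : ℂ) * ea s k₀ = D * (deg s : ℂ) := by exact_mod_cast congrArg (fun x : ℤ => (x : ℂ)) (hdeg s)
    rw [hcc, hdeg', Int.cast_zero, zero_mul, add_zero, ← mul_div_assoc, h4, mul_div_cancel_left₀ _ hDC]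
  have h4 : ∀ s, c s (mkLab htr (ind M) 0 0) ≠ 0 := by
    intro s h5
    rw [hk] at h5
    have h6 := h3 s
    rw [h5, mul_zero] at h6
    exact hdeg0 s (by exact_mod_cast h6.symm)
  obtain ⟨h5, h6⟩ := hS.irr h1 h2 h4
  refine ⟨fun s => chi G (mkLab htr (ind M)) (c s), h5, h6, fun s => ?_, fun g => ?_⟩
  · show chi G (mkLab htr (ind M)) (c s) 1 = _
    rw [hS.chi_one, hk, Nat.card_eq_fintype_card, Fintype.card_fin, h3]
  · show ∑ s, chi G (mkLab htr (ind M)) (c s) g = _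
    rw [hS.sum_chi h2]
    congr 1
    refine Nat.card_congr (Equiv.subtypeEquivRight fun i => ?_)
    rw [MulAction.mem_fixedBy, Fin.ext_iff, hsm]

end Cfsg.Agent.H358.LD
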