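import Cfsg.Agent.H358.LD.HeB
import Cfsg.Agent.H954.LD.Row
import Cfsg.Agent.H489.OutSpor
import Cfsg.Agent.H997.OutHe2
import Cfsg.Agent.KFacts.He.Outer

/-!
# S4910, the row of the Held group (helper358)

Characters of degrees `1275 = 3·5²·17` and `6272 = 2⁷·7²`, both invariant under all automorphisms: they are
constituents of unique degree of the invariant permutation character of degree 16660.
-/

set_option autoImplicit false

namespace Cfsg.Agent.H358.LD.HeRow

open Cfsg Cfsg.Spor Cfsg.Spor.He Cfsg.Agent.Lib.PermNet Cfsg.Agent.Lib.PermNetOrbit Cfsg.Agent.H358.LD.HeData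
  Cfsg.Agent.H358.LD.HeB Cfsg.Agent.H997.OutHe
open Cfsg.Agent.SporRec.CosetBulk (rangeCheck lt_iff_of_rangeCheck)
open Cfsg.Agent.Characters.Core Cfsg.Agent.H954.LD

universe u v

theorem okT : net_t.ok (2 ^ 15) = true := by decide +kernel

theorem rangeT : rangeCheck net_t 16660 = true := by decide +kernel

theorem chk_T (x : Gen) : checkEq 15 [net_t, net x] [net (sw x), net_t] = true := by cases x <;> decide +kernel

theorem comm_T (x : Gen) : net_t.perm * pm x = pm (sw x) * net_t.perm := by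
  have h := wperm_eq_of_checkEq (WOk.cons okT (WOk.cons (ok x) (WOk.nil _))) (WOk.cons (ok (sw x))
    (WOk.cons okT (WOk.nil _))) (chk_T x)
  rw [wperm_cons, wperm_cons, wperm_nil, mul_one, wperm_cons, wperm_cons, wperm_nil, mul_one] at h
  exact h

theorem phi_rho (g : Cfsg.Spor.He) : net_t.perm * phi g = phi (rho g) * net_t.perm := by
  have h := of_mem_closure g
  induction h using Subgroup.closure_induction with
  | mem x hx =>
    obtain ⟨x, rfl⟩ := hx
    have h1 : rho (PresentedGroup.of x) = PresentedGroup.of (sw x) := rho_gn x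
    rw [h1, phi_of, phi_of, comm_T]
  | one => rw [map_one, map_one, map_one, mul_one, one_mul]
  | mul x y _ _ hx hy => rw [map_mul, map_mul, ← mul_assoc, hx, mul_assoc, hy, ← mul_assoc, map_mul]
  | inv x _ hx =>
    rw [map_inv, map_inv, map_inv, eq_inv_mul_iff_mul_eq, ← mul_assoc, ← hx, mul_inv_cancel_right]

/-- Fixed points of conjugate permutations. -/
theorem card_fix_eq {n : ℕ} {t f f' : Equiv.Perm ℕ} (ht : ∀ i, t i < n ↔ i < n) (h : t * f = f' * t) :
    Nat.card {i : Fin n // f i = i} = Nat.card {i : Fin n // f' i = i} := by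
  have hti : ∀ i, t (t⁻¹ i) = i := fun i => by simp
  have hit : ∀ i, t⁻¹ (t i) = i := fun i => by simp
  let e : Fin n ≃ Fin n :=
    { toFun := fun i => ⟨t i, (ht i).2 i.2⟩
      invFun := fun i => ⟨t⁻¹ i, (ht _).1 (by rw [hti]; exact i.2)⟩
      left_inv := fun i => Fin.ext (hit i)
      right_inv := fun i => Fin.ext (hti i) }
  refine Nat.card_congr (Equiv.subtypeEquiv e fun i => ?_)
  have h1 : t (f i) = f' (t i) := congrArg (fun g : Equiv.Perm ℕ => g i) h
  show f i = i ↔ f' (t i) = t i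
  rw [← h1, t.injective.eq_iff]

/-- the permutation character -/
noncomputable def pi (g : Cfsg.Spor.He) : ℕ := Nat.card {i : Fin 16660 // phi g i = i}

theorem pi_rho (g : Cfsg.Spor.He) : pi (rho g) = pi g :=
  (card_fix_eq (lt_iff_of_rangeCheck okT rangeT) (phi_rho g)).symm

theorem pi_conj (k g : Cfsg.Spor.He) : pi (k * g * k⁻¹) = pi g :=
  (card_fix_eq (phi_lt_iff k) (by rw [← map_mul, ← map_mul, inv_mul_cancel_right])).symm

theorem pi_aut (σ : MulAut Cfsg.Spor.He) (g : Cfsg.Spor.He) : pi (σ g) = pi g := by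
  have hconj : ∀ (τ : MulAut Cfsg.Spor.He), τ ∈ (MulAut.conj : Cfsg.Spor.He →* MulAut Cfsg.Spor.He).range →
      ∀ g, pi (τ g) = pi g := by
    rintro _ ⟨k, rfl⟩ g
    rw [MulAut.conj_apply, pi_conj]
  rcases KFacts.He.Outer.index_le_two (K := Cfsg.Spor.He) ⟨MulEquiv.refl _⟩ with h | h
  · rw [Subgroup.index_eq_one] at h
    exact hconj σ (by rw [h]; exact Subgroup.mem_top σ) g
  · by_cases hσ : σ ∈ (MulAut.conj : Cfsg.Spor.He →* MulAut Cfsg.Spor.He).range
    · exact hconj σ hσ g
    · have hr : rho ∉ (MulAut.conj : Cfsg.Spor.He →* MulAut Cfsg.Spor.He).range := by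
        rintro ⟨k, hk⟩
        exact rho_outer k hk.symm
      have h1 : σ * rho ∈ (MulAut.conj : Cfsg.Spor.He →* MulAut Cfsg.Spor.He).range := by
        rw [Subgroup.mul_mem_iff_of_index_two h]
        exact ⟨fun h => absurd h hσ, fun h => absurd h hr⟩
      have h2 := hconj _ h1 (rho g)
      rw [MulAut.mul_apply] at h2
      have h3 : rho (rho g) = g := DFunLike.congr_fun rho_sq g
      rw [h3, pi_rho] at h2
      exact h2

/-- The invariant constituents. -/
theorem exists_inv (s : Fin 10) (hs : ∀ t, t ≠ s → dg t ≠ dg s) :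
    ∃ χ : IrrCharacter Cfsg.Spor.He, (χ : Cfsg.Spor.He → ℂ) 1 = (dg s : ℂ) ∧ Inv χ := by
  obtain ⟨χ, h1, -, h3, h4⟩ := exists_chars
  refine ⟨⟨χ s, h1 s⟩, h3 s, fun σ g => ?_⟩
  refine H687.Scheme.inv_of_unique h1 (σ := σ) (fun g => ?_) (s := s) (fun t hts => ?_) g
  · rw [Finset.sum_apply, Finset.sum_apply, h4, h4]
    exact_mod_cast pi_aut σ g
  · rw [h3, h3]
    exact_mod_cast hs t hts

/-- transport of an invariant character -/
theorem exists_inv_of_equiv {H : Type v} {G : Type u} [Group H] [Group G] (E : G ≃* H) {d : ℕ}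
    (h : ∃ χ : IrrCharacter H, (χ : H → ℂ) 1 = (d : ℂ) ∧ Inv χ) :
    ∃ χ : IrrCharacter G, charDegree (χ : G → ℂ) = d ∧ Inv χ := by
  obtain ⟨χ, h1, h2⟩ := h
  refine ⟨⟨(χ : H → ℂ) ∘ E.toMonoidHom, isIrr_comp E.toMonoidHom E.surjective χ.2⟩, ?_, fun b s => ?_⟩
  · unfold charDegree
    show ⌊(((χ : H → ℂ) (E.toMonoidHom 1)).re)⌋₊ = d
    rw [map_one, h1]
    simp
  · show (χ : H → ℂ) (E (b s)) = (χ : H → ℂ) (E s)
    have h3 := h2 ((E.symm.trans b).trans E) (E s)
    have h4 : ((E.symm.trans b).trans E) (E s) = E (b s) := by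
      show E (b (E.symm (E s))) = E (b s)
      rw [E.symm_apply_apply]
    rw [h4] at h3
    exact h3

/-- **The row of the Held group.** -/
theorem row_He {S : Type u} [Group S] [Finite S] [IsSimpleGroup S] (hna : ¬ IsMulCommutative S) (h : Spor.IsoHe S) :
    CopRow S := by
  have h2 : Nat.card (Out S) ≤ 2 := by
    apply H489.card_out_sporadic
    unfold IsSporadicGroup
    tauto
  obtain ⟨e⟩ := h
  obtain ⟨α, hα, hiα⟩ := exists_inv_of_equiv e (exists_inv 2 (by decide))
  obtain ⟨β, hβ, hiβ⟩ := exists_inv_of_equiv e (exists_inv 7 (by decide))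
  have e1 : dg 2 = 1275 := rfl
  have e2 : dg 7 = 6272 := rfl
  rw [e1] at hα
  rw [e2] at hβ
  exact copRow_inv hna h2 (α := α) (β := β) (by rw [hα]; norm_num) (by rw [hβ]; norm_num) (by rw [hα, hβ]; norm_num)
    hiα hiβ

end Cfsg.Agent.H358.LD.HeRow
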